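import Mathlib

/-!
# Sections extend across a closed subset along which there are regular sequences of length two
-/

set_option autoImplicit false

universe u

open CategoryTheory AlgebraicGeometry TopologicalSpace Opposite

namespace FlatPurLib

section Alg

variable {T : Type u} [CommRing T] {a b : T}

theorem pow_right_regular_mod {A : T} (h : ∀ y, A ∣ b * y → A ∣ y) :
    ∀ (m : ℕ) (y : T), A ∣ b ^ m * y → A ∣ y
  | 0, y, hy => by simpa using hy
  | m + 1, y, hy => by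
    refine pow_right_regular_mod h m y (h _ ?_)
    rwa [← mul_assoc, ← pow_succ']

theorem pow_left_regular_mod (ha : IsSMulRegular T a) (h : ∀ y, a ∣ b * y → a ∣ y) :
    ∀ (n : ℕ) (y : T), a ^ n ∣ b * y → a ^ n ∣ y
  | 0, y, _ => by simp
  | n + 1, y, hy => by
    obtain ⟨z, hz⟩ : a ∣ y := h y ((dvd_pow_self a (Nat.succ_ne_zero n)).trans hy)
    subst hz
    rw [pow_succ']
    refine mul_dvd_mul_left a (pow_left_regular_mod ha h n z ?_)
    obtain ⟨w, hw⟩ := hy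
    exact ⟨w, ha (by simp only [smul_eq_mul]; linear_combination hw)⟩

theorem dvd_of_weaklyRegular (h : RingTheory.Sequence.IsWeaklyRegular T [a, b]) :
    IsSMulRegular T a ∧ ∀ y, a ∣ b * y → a ∣ y := by
  rw [RingTheory.Sequence.isWeaklyRegular_cons_iff, RingTheory.Sequence.isWeaklyRegular_cons_iff] at h
  obtain ⟨ha, hb, -⟩ := h
  refine ⟨ha, fun y hy => ?_⟩
  have key : ∀ z : T, (Submodule.Quotient.mk z : QuotSMulTop a T) = 0 ↔ a ∣ z := fun z => by
    rw [Submodule.Quotient.mk_eq_zero, Submodule.mem_smul_pointwise_iff_exists]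
    exact ⟨fun ⟨w, _, hw⟩ => ⟨w, hw.symm⟩, fun ⟨w, hw⟩ => ⟨w, trivial, hw.symm⟩⟩
  refine (key y).mp (hb ?_)
  change b • _ = b • (0 : QuotSMulTop a T)
  rw [smul_zero]
  exact (key (b • y)).mpr hy

end Alg

variable {X : Scheme.{u}} (U : X.Opens) {V : X.Opens} (hV : IsAffineOpen V)

/-- Restriction to `U ⊓ V`. -/
noncomputable abbrev rho (V : X.Opens) : Γ(X, V) →+* Γ(X, U ⊓ V) :=
  (X.presheaf.map (homOfLE (inf_le_right : U ⊓ V ≤ V)).op).hom

include hV in
theorem eq_zero_of_vanish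
    (hZ : ∀ z : X, z ∉ U → ∃ a ∈ IsLocalRing.maximalIdeal (X.presheaf.stalk z), IsSMulRegular (X.presheaf.stalk z) a)
    (s : Γ(X, V)) (hs : rho U V s = 0) : s = 0 := by
  by_contra hs0
  let J : Ideal Γ(X, V) := (Ideal.span {s}).annihilator
  have hmem : ∀ c : Γ(X, V), c ∈ J ↔ c * s = 0 := fun c => by
    simp [J, Submodule.mem_annihilator_span_singleton]
  have hJ : J ≠ ⊤ := fun h => hs0 (by simpa using (hmem 1).mp (by rw [h]; trivial))
  obtain ⟨m, hm, hJm⟩ := Ideal.exists_le_maximal J hJ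
  have := hm.isPrime
  obtain ⟨p, hp, -⟩ := Ideal.exists_minimalPrimes_le hJm
  have := hp.1.1
  let z : X := hV.fromSpec ⟨p, hp.1.1⟩
  have hzV : z ∈ V := hV.range_fromSpec.le (Set.mem_range_self _)
  let := TopCat.Presheaf.algebra_section_stalk X.presheaf (⟨z, hzV⟩ : V)
  have hloc0 := hV.isLocalization_stalk ⟨z, hzV⟩
  have hq : hV.primeIdealOf ⟨z, hzV⟩ = ⟨p, hp.1.1⟩ :=
    hV.fromSpec.isOpenEmbedding.injective (hV.fromSpec_primeIdealOf _)
  have hloc : IsLocalization.AtPrime (X.presheaf.stalk z) p := by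
    simp only [hq] at hloc0
    exact hloc0
  have hne : X.presheaf.germ V z hzV s ≠ 0 := by
    intro h0
    obtain ⟨⟨c, hc⟩, hcs⟩ := (IsLocalization.map_eq_zero_iff p.primeCompl (X.presheaf.stalk z) s).mp h0
    exact hc (hp.1.2 ((hmem c).mpr hcs))
  have hzU : z ∉ U := fun h => hne (by
    rw [← TopCat.Presheaf.germ_res_apply X.presheaf (homOfLE (inf_le_right : U ⊓ V ≤ V)) z ⟨h, hzV⟩ s]
    exact (congrArg _ hs).trans (map_zero _))
  obtain ⟨a, ham, hreg⟩ := hZ z hzU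
  rw [← IsLocalization.AtPrime.map_eq_maximalIdeal p (X.presheaf.stalk z),
    ← IsLocalization.AtPrime.radical_map_of_mem_minimalPrimes (X.presheaf.stalk z) p J hp] at ham
  obtain ⟨n, hn⟩ := ham
  refine hne ((hreg.pow n) ?_)
  simp only [smul_eq_mul, mul_zero]
  refine Submodule.span_induction (p := fun y _ => y * X.presheaf.germ V z hzV s = 0) ?_ ?_ ?_ ?_ hn
  · rintro _ ⟨c, hc, rfl⟩
    refine (map_mul (X.presheaf.germ V z hzV).hom c s).symm.trans ?_
    rw [(hmem c).mp hc, map_zero]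
  · simp
  · intro x y _ _ hx hy
    rw [add_mul, hx, hy, add_zero]
  · intro c x _ hx
    rw [smul_eq_mul, mul_assoc, hx, mul_zero]

include hV in
theorem rho_surjective [QuasiCompact U.ι]
    (hZ : ∀ z : X, z ∉ U → ∃ a b : X.presheaf.stalk z, a ∈ IsLocalRing.maximalIdeal (X.presheaf.stalk z) ∧
      b ∈ IsLocalRing.maximalIdeal (X.presheaf.stalk z) ∧ RingTheory.Sequence.IsWeaklyRegular (X.presheaf.stalk z) [a, b]) :
    Function.Surjective (rho U V) := by
  classical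
  have hZ1 : ∀ z : X, z ∉ U → ∃ a ∈ IsLocalRing.maximalIdeal (X.presheaf.stalk z),
      IsSMulRegular (X.presheaf.stalk z) a := fun z hz =>
    let ⟨a, _, ha, _, hr⟩ := hZ z hz
    ⟨a, ha, (dvd_of_weaklyRegular hr).1⟩
  have hcpt : IsCompact ((U ⊓ V : X.Opens) : Set X) := by
    have h0 : IsCompact (U.ι ⁻¹' (V : Set X)) := QuasiCompact.isCompact_preimage (f := U.ι) _ V.2 hV.isCompact
    have h := h0.image U.ι.continuous
    have e : U.ι '' (U.ι ⁻¹' (V : Set X)) = ((U ⊓ V : X.Opens) : Set X) := by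
      rw [Set.image_preimage_eq_inter_range, Scheme.Opens.range_ι, Opens.coe_inf, Set.inter_comm]
    rwa [e] at h
  have hcov : ((U ⊓ V : X.Opens) : Set X) ⊆
      ⋃ f : {f : Γ(X, V) // X.basicOpen f ≤ U ⊓ V}, (X.basicOpen f.1 : Set X) := by
    intro x hx
    obtain ⟨f, hle, hxf⟩ := hV.exists_basicOpen_le (V := U ⊓ V) ⟨x, hx⟩ hx.2
    exact Set.mem_iUnion.mpr ⟨⟨f, hle⟩, hxf⟩
  obtain ⟨F, hF⟩ := hcpt.elim_finite_subcover
    (fun f : {f : Γ(X, V) // X.basicOpen f ≤ U ⊓ V} => (X.basicOpen f.1 : Set X))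
    (fun f => (X.basicOpen f.1).2) hcov
  have zero_of : ∀ δ : Γ(X, U ⊓ V), (∀ f ∈ F, ∃ n : ℕ, rho U V (f.1 ^ n) * δ = 0) → δ = 0 := by
    intro δ hδ
    refine X.sheaf.eq_of_locally_eq' (fun f : F => X.basicOpen f.1.1) (U ⊓ V) (fun f => homOfLE f.1.2)
      (fun x hx => ?_) δ 0 fun f => ?_
    · obtain ⟨f, hf, hxf⟩ := Set.mem_iUnion₂.mp (hF hx)
      exact Opens.mem_iSup.mpr ⟨⟨f, hf⟩, hxf⟩
    · obtain ⟨n, hn⟩ := hδ f.1 f.2
      refine Eq.trans ?_ (map_zero _).symm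
      have h := congrArg (X.presheaf.map (homOfLE f.1.2).op) hn
      rw [map_zero, map_mul] at h
      refine (IsUnit.mul_right_eq_zero ?_).mp h
      rw [map_pow, map_pow]
      refine IsUnit.pow n ?_
      rw [← ConcreteCategory.comp_apply, ← Functor.map_comp]
      exact RingedSpace.isUnit_res_basicOpen X.toRingedSpace f.1.1
  intro σ
  let J : Ideal Γ(X, V) :=
    { carrier := {c | ∃ r, rho U V c * σ = rho U V r}
      zero_mem' := ⟨0, by simp⟩
      add_mem' := fun {c c'} ⟨r, hr⟩ ⟨r', hr'⟩ => ⟨r + r', by rw [map_add, map_add, add_mul, hr, hr']⟩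
      smul_mem' := fun d c ⟨r, hr⟩ => ⟨d * r, by rw [smul_eq_mul, map_mul, map_mul, mul_assoc, hr]⟩ }
  suffices hJ : J = ⊤ by
    obtain ⟨r, hr⟩ : (1 : Γ(X, V)) ∈ J := by rw [hJ]; trivial
    exact ⟨r, by rw [← hr, map_one, one_mul]⟩
  have hpow : ∀ f ∈ F, ∃ n : ℕ, f.1 ^ n ∈ J := by
    intro f _
    have := hV.isLocalization_basicOpen f.1
    obtain ⟨⟨r, ⟨_, N, rfl⟩⟩, hr⟩ := IsLocalization.surj (Submonoid.powers f.1)
      (S := Γ(X, X.basicOpen f.1)) (X.presheaf.map (homOfLE f.2).op σ)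
    let η : Γ(X, U ⊓ V) := rho U V (f.1 ^ N) * σ - rho U V r
    have hbo : X.basicOpen (rho U V f.1) ≤ X.basicOpen f.1 := by
      erw [Scheme.basicOpen_res]
      exact inf_le_right
    have hres : η |_ X.basicOpen (rho U V f.1) = 0 := by
      have h0 : X.presheaf.map (homOfLE f.2).op η = 0 := by
        simp only [η, map_sub, map_mul]
        rw [← ConcreteCategory.comp_apply, ← Functor.map_comp, ← ConcreteCategory.comp_apply,
          ← Functor.map_comp, sub_eq_zero, mul_comm]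
        exact hr
      have := congrArg (X.presheaf.map (homOfLE hbo).op) h0
      rw [map_zero, ← ConcreteCategory.comp_apply, ← Functor.map_comp] at this
      exact this
    obtain ⟨M, hM⟩ := exists_pow_mul_eq_zero_of_res_basicOpen_eq_zero_of_isCompact X hcpt η (rho U V f.1) hres
    refine ⟨M + N, f.1 ^ M * r, ?_⟩
    simp only [η, mul_sub, sub_eq_zero] at hM
    rw [pow_add, map_mul, map_mul, map_pow (rho U V) f.1 M, mul_assoc]
    exact hM
  choose! n hn using hpow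
  by_contra hJ
  obtain ⟨m, hm, hJm⟩ := Ideal.exists_le_maximal J hJ
  have := hm.isPrime
  obtain ⟨p, hp, -⟩ := Ideal.exists_minimalPrimes_le hJm
  have := hp.1.1
  let z : X := hV.fromSpec ⟨p, hp.1.1⟩
  have hzV : z ∈ V := hV.range_fromSpec.le (Set.mem_range_self _)
  let := TopCat.Presheaf.algebra_section_stalk X.presheaf (⟨z, hzV⟩ : V)
  have hloc0 := hV.isLocalization_stalk ⟨z, hzV⟩
  have hq : hV.primeIdealOf ⟨z, hzV⟩ = ⟨p, hp.1.1⟩ :=
    hV.fromSpec.isOpenEmbedding.injective (hV.fromSpec_primeIdealOf _)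
  have hloc : IsLocalization.AtPrime (X.presheaf.stalk z) p := by
    simp only [hq] at hloc0
    exact hloc0
  have hzU : z ∉ U := by
    intro h
    obtain ⟨f, hf, hzf⟩ := Set.mem_iUnion₂.mp (hF (show z ∈ ((U ⊓ V : X.Opens) : Set X) from ⟨h, hzV⟩))
    have h2 : (⟨p, hp.1.1⟩ : PrimeSpectrum Γ(X, V)) ∈ PrimeSpectrum.basicOpen f.1 := by
      rw [← hV.fromSpec_preimage_basicOpen]
      exact hzf
    exact h2 (hp.1.1.mem_of_pow_mem (n f) (hp.1.2 (hn f hf)))
  obtain ⟨a, b, ha, hb, hab⟩ := hZ z hzU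
  obtain ⟨hareg, hbmod⟩ := dvd_of_weaklyRegular hab
  rw [← IsLocalization.AtPrime.map_eq_maximalIdeal p (X.presheaf.stalk z),
    ← IsLocalization.AtPrime.radical_map_of_mem_minimalPrimes (X.presheaf.stalk z) p J hp] at ha hb
  obtain ⟨na, hna⟩ := ha
  obtain ⟨nb, hnb⟩ := hb
  obtain ⟨⟨⟨A₀, hA₀⟩, sA⟩, hA⟩ := (IsLocalization.mem_map_algebraMap_iff p.primeCompl _).mp hna
  obtain ⟨⟨⟨B₀, hB₀⟩, sB⟩, hB⟩ := (IsLocalization.mem_map_algebraMap_iff p.primeCompl _).mp hnb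
  obtain ⟨r, hr⟩ := hA₀
  obtain ⟨r', hr'⟩ := hB₀
  let g := algebraMap Γ(X, V) (X.presheaf.stalk z)
  have huA : IsUnit (g sA) := IsLocalization.map_units _ sA
  have huB : IsUnit (g sB) := IsLocalization.map_units _ sB
  have hAreg : IsSMulRegular (X.presheaf.stalk z) (g A₀) := by
    have : g A₀ = a ^ na * g sA := hA.symm
    rw [this]
    exact (hareg.pow na).mul (huA.isSMulRegular _)
  have hBmod : ∀ y, g A₀ ∣ g B₀ * y → g A₀ ∣ y := by
    have h1 : g A₀ = a ^ na * g sA := hA.symm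
    have h2 : g B₀ = b ^ nb * g sB := hB.symm
    intro y hy
    rw [h1, huA.mul_right_dvd] at hy ⊢
    rw [h2, mul_comm (b ^ nb), mul_assoc, huB.dvd_mul_left] at hy
    exact pow_right_regular_mod (pow_left_regular_mod hareg hbmod na) nb y hy
  have hcross : ∀ (j rj : Γ(X, V)), rho U V j * σ = rho U V rj → A₀ * rj = j * r := by
    intro j rj hj
    rw [← sub_eq_zero]
    refine eq_zero_of_vanish U hV hZ1 _ ?_
    rw [map_sub, map_mul, map_mul, ← hj, ← hr]
    ring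
  obtain ⟨w, hw⟩ : g A₀ ∣ g r := by
    refine hBmod _ ⟨g r', ?_⟩
    rw [← map_mul, ← map_mul, hcross B₀ r' hr']
  obtain ⟨r₁, c, rfl⟩ := IsLocalization.exists_mk'_eq p.primeCompl w
  have h3 : g (r * c - A₀ * r₁) = 0 := by
    rw [map_sub, map_mul, map_mul, hw, mul_assoc, IsLocalization.mk'_spec, sub_self]
  obtain ⟨c₁, hc₁⟩ := (IsLocalization.map_eq_zero_iff p.primeCompl (X.presheaf.stalk z) _).mp h3
  let c₂ : Γ(X, V) := c₁ * c
  let r₂ : Γ(X, V) := c₁ * r₁
  have hc₂ : c₂ * r = A₀ * r₂ := by linear_combination hc₁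
  have hex : ∀ f ∈ F, ∃ cf ∈ p.primeCompl, rho U V (f.1 ^ n f) * (rho U V cf * (rho U V c₂ * σ - rho U V r₂)) = 0 := by
    intro f hf
    obtain ⟨rj, hj⟩ := hn f hf
    have hcr := hcross _ _ hj
    have h4 : g (c₂ * rj - f.1 ^ n f * r₂) = 0 := by
      refine hAreg ?_
      simp only [smul_eq_mul, mul_zero]
      rw [← map_mul, show A₀ * (c₂ * rj - f.1 ^ n f * r₂) = 0 by
        linear_combination c₂ * hcr + f.1 ^ n f * hc₂, map_zero]
    obtain ⟨cf, hcf⟩ := (IsLocalization.map_eq_zero_iff p.primeCompl (X.presheaf.stalk z) _).mp h4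
    refine ⟨cf, cf.2, ?_⟩
    have h5 := congrArg (rho U V) hcf
    rw [map_mul, map_sub, map_mul, map_mul, map_zero, ← hj] at h5
    rw [← h5]
    simp only [c₂, r₂, map_mul]
    ring
  choose! cf hcf hcf0 using hex
  have hmem : (∏ f ∈ F, cf f) * c₂ ∈ J := by
    refine ⟨(∏ f ∈ F, cf f) * r₂, sub_eq_zero.mp (zero_of _ fun f hf => ⟨n f, ?_⟩)⟩
    rw [← Finset.mul_prod_erase F cf hf, map_mul, map_mul, map_mul]
    have h6 := hcf0 f hf
    simp only [c₂, r₂, map_mul] at h6 ⊢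
    linear_combination (rho U V (∏ x ∈ F.erase f, cf x)) * h6
  exact (Submonoid.mul_mem _ (Submonoid.prod_mem _ hcf) (p.primeCompl.mul_mem c₁.2 c.2)) (hp.1.2 hmem)

end FlatPurLib
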